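import Mathlib

set_option autoImplicit false
set_option backward.isDefEq.respectTransparency.types false
set_option synthInstance.maxHeartbeats 400000
set_option maxHeartbeats 4000000
set_option linter.style.haveILetI false
set_option linter.unusedSectionVars false
set_option linter.unusedVariables false
set_option linter.unusedSimpArgs false
set_option linter.unnecessarySimpa false

/-! helper2: algebra for the quotient of `Proj` of a graded ring by a finite group of graded
automorphisms: compatibility of `Away.map` with `Localization.awayMap`, homogeneity of the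
coefficients of `∏ (X - g • a)`, existence of invariant homogeneous elements outside a prime, and the
identification of the invariants of `A_(f)` with `C_(c)`. -/

universe u
open HomogeneousLocalization Polynomial

namespace Groth.Agent.Helper2.ProjQuot

section Gen
variable {A B σ τ : Type*} [CommRing A] [SetLike σ A] [AddSubgroupClass σ A] {𝒜 : ℕ → σ}
  [GradedRing 𝒜] [CommRing B] [SetLike τ B] [AddSubgroupClass τ B] {ℬ : ℕ → τ} [GradedRing ℬ]

theorem map_compat (φ : 𝒜 →+*ᵍ ℬ) (f : A) :
    (algebraMap (Away ℬ (φ f)) (Localization.Away (φ f))).comp (Away.map φ f) =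
      (Localization.awayMap φ.toRingHom f).comp
        (algebraMap (Away 𝒜 f) (Localization.Away f)) := by
  refine RingHom.ext fun q => ?_
  obtain ⟨c, rfl⟩ := HomogeneousLocalization.mk_surjective q
  simp only [RingHom.comp_apply, HomogeneousLocalization.algebraMap_apply]
  rw [Away.map, HomogeneousLocalization.map_mk, val_mk, val_mk]
  simp only [Localization.mk_eq_mk', Localization.awayMap, IsLocalization.Away.map,
    IsLocalization.map_mk']
  rfl

theorem coeff_prod_mem {κ : Type*} (n : ℕ) (b : κ → A) (s : Finset κ)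
    (hb : ∀ i ∈ s, b i ∈ 𝒜 n) :
    (∀ k, k ≤ s.card → (∏ i ∈ s, (X - C (b i))).coeff k ∈ 𝒜 ((s.card - k) * n)) ∧
    (∀ k, s.card < k → (∏ i ∈ s, (X - C (b i))).coeff k = 0) ∧
    (∏ i ∈ s, (X - C (b i))).coeff s.card = 1 := by
  classical
  induction s using Finset.induction_on with
  | empty =>
    refine ⟨fun k hk => ?_, fun k hk => ?_, ?_⟩
    · simp only [Finset.card_empty, Nat.le_zero] at hk
      subst hk
      simp only [Finset.prod_empty, Finset.card_empty, coeff_one_zero, Nat.sub_self, zero_mul]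
      exact SetLike.GradedOne.one_mem
    · simp only [Finset.prod_empty, Finset.card_empty] at hk ⊢
      rw [coeff_one, if_neg (by omega)]
    · simp
  | insert i s hi ih =>
    obtain ⟨ih1, ih2, ih3⟩ := ih (fun j hj => hb j (Finset.mem_insert_of_mem hj))
    have hbi := hb i (Finset.mem_insert_self i s)
    rw [Finset.prod_insert hi, Finset.card_insert_of_notMem hi, mul_comm]
    refine ⟨fun k hk => ?_, fun k hk => ?_, ?_⟩
    · cases k with
      | zero =>
        rw [mul_coeff_zero, coeff_sub, coeff_X_zero, coeff_C_zero, zero_sub, mul_neg]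
        apply neg_mem
        have h := SetLike.mul_mem_graded (ih1 0 (Nat.zero_le _)) hbi
        have e : (s.card + 1 - 0) * n = (s.card - 0) * n + n := by
          simp only [Nat.sub_zero]; ring
        rw [e]
        exact h
      | succ k' =>
        rw [coeff_mul_X_sub_C]
        apply sub_mem
        · have h := ih1 k' (by omega)
          have e : s.card + 1 - (k' + 1) = s.card - k' := by omega
          rw [e]
          exact h
        · by_cases hk' : k' + 1 ≤ s.card
          · have h := SetLike.mul_mem_graded (ih1 (k' + 1) hk') hbi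
            have e : (s.card + 1 - (k' + 1)) * n = (s.card - (k' + 1)) * n + n := by
              have : s.card + 1 - (k' + 1) = (s.card - (k' + 1)) + 1 := by omega
              rw [this]; ring
            rw [e]
            exact h
          · rw [ih2 (k' + 1) (by omega), zero_mul]
            exact zero_mem _
    · cases k with
      | zero => omega
      | succ k' =>
        rw [coeff_mul_X_sub_C, ih2 k' (by omega), ih2 (k' + 1) (by omega), zero_mul, sub_zero]
    · rw [coeff_mul_X_sub_C, ih3, ih2 (s.card + 1) (by omega), zero_mul, sub_zero]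

end Gen

section Inv
variable {A σ : Type*} [CommRing A] [SetLike σ A] [AddSubgroupClass σ A] (𝒜 : ℕ → σ)
  [GradedRing 𝒜] {G : Type*} [Group G] [Finite G] [MulSemiringAction G A]
  (hGdeg : ∀ (g : G) (i : ℕ) (a : A), a ∈ 𝒜 i → g • a ∈ 𝒜 i)

include hGdeg in
theorem exists_invariant_notMem (P : Ideal A) [P.IsPrime] (n : ℕ) (hn : 0 < n) (a : A)
    (ha : a ∈ 𝒜 n) (haP : a ∉ P) :
    ∃ (m : ℕ) (e : A), 0 < m ∧ e ∈ 𝒜 m ∧ (∀ g : G, g • e = e) ∧ e ∉ P := by
  classical
  cases nonempty_fintype G
  set F : A[X] := ∏ g ∈ (Finset.univ : Finset G), (X - C (g • a)) with hF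
  obtain ⟨h1, h2, h3⟩ := coeff_prod_mem (𝒜 := 𝒜) n (fun g : G => g • a) Finset.univ
    (fun g _ => hGdeg g n a ha)
  set N := (Finset.univ : Finset G).card with hN
  have hsmul : ∀ g : G, g • F = F := fun g =>
    Finset.smul_prod'.trans <| Fintype.prod_bijective (g * ·) (Group.mulLeft_bijective g) _ _
      fun g' => by rw [smul_sub, Polynomial.smul_X, Polynomial.smul_C, mul_smul]
  have heval : F.eval a = 0 := by
    rw [hF, Polynomial.eval_prod]
    exact Finset.prod_eq_zero (Finset.mem_univ (1 : G)) (by simp)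
  have hdeg : F.natDegree ≤ N := natDegree_le_iff_coeff_eq_zero.mpr h2
  by_contra hcon
  push Not at hcon
  have hlow : ∀ k, k < N → F.coeff k ∈ P := by
    intro k hk
    refine hcon ((N - k) * n) _ (Nat.mul_pos (by omega) hn) (h1 k hk.le) (fun g => ?_)
    rw [← Polynomial.coeff_smul, hsmul]
  have hsum := Polynomial.eval_eq_sum_range' (Nat.lt_succ_of_le hdeg) a
  rw [heval, Finset.sum_range_succ, h3, one_mul] at hsum
  have haN : a ^ N ∈ P := by
    have : a ^ N = - ∑ i ∈ Finset.range N, F.coeff i * a ^ i := by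
      rw [eq_neg_iff_add_eq_zero, add_comm]; exact hsum.symm
    rw [this]
    exact P.neg_mem (P.sum_mem fun i hi => P.mul_mem_right _ (hlow i (Finset.mem_range.mp hi)))
  exact haP (Ideal.IsPrime.mem_of_pow_mem ‹_› N haN)

end Inv

section Quot
variable {A C σ τ : Type*} [CommRing A] [CommRing C] [SetLike σ A] [AddSubgroupClass σ A]
  {𝒜 : ℕ → σ} [GradedRing 𝒜] [SetLike τ C] [AddSubgroupClass τ C] {𝒞 : ℕ → τ} [GradedRing 𝒞]
  {G : Type*} [Group G] [MulSemiringAction G A]
  (hGdeg : ∀ (g : G) (i : ℕ) (a : A), a ∈ 𝒜 i → g • a ∈ 𝒜 i)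
  (φ : 𝒞 →+*ᵍ 𝒜) (hφ : Function.Injective φ)
  (himg : ∀ (i : ℕ) (a : A), a ∈ 𝒜 i → (∀ g : G, g • a = a) → ∃ c ∈ 𝒞 i, φ c = a)

/-- the graded endomorphism given by a group element -/
def gact (g : G) : 𝒜 →+*ᵍ 𝒜 where
  __ := MulSemiringAction.toRingHom G A g
  map_mem := fun hx => hGdeg g _ _ hx

theorem gact_apply (g : G) (a : A) : gact hGdeg g a = g • a := rfl

include hφ in
theorem map_injective {n : ℕ} (c : C) (hc : c ∈ 𝒞 n) : Function.Injective (Away.map φ c) := by
  rw [injective_iff_map_eq_zero]
  intro q hq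
  obtain ⟨k, a, ha, rfl⟩ := Away.mk_surjective 𝒞 hc q
  rw [Away.map_mk] at hq
  have h1 := congrArg HomogeneousLocalization.val hq
  rw [Away.val_mk, val_zero, Localization.mk_eq_mk', IsLocalization.mk'_eq_zero_iff] at h1
  obtain ⟨⟨_, m, rfl⟩, hm⟩ := h1
  have h2 : c ^ m * a = 0 := hφ (by rw [map_mul, map_pow, map_zero]; exact hm)
  apply val_injective
  rw [Away.val_mk, val_zero, Localization.mk_eq_mk', IsLocalization.mk'_eq_zero_iff]
  exact ⟨⟨c ^ m, m, rfl⟩, h2⟩

include himg in
theorem mem_range_map [Finite G] {n : ℕ} (c : C) (hc : c ∈ 𝒞 n) (hinvc : ∀ g : G, g • φ c = φ c)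
    (hle : ∀ g : G, Submonoid.powers (φ c) ≤ (Submonoid.powers (φ c)).comap (gact hGdeg g))
    (q : Away 𝒜 (φ c))
    (hq : ∀ g : G, HomogeneousLocalization.map (gact hGdeg g) (hle g) q = q) :
    q ∈ Set.range (Away.map φ c) := by
  have hfc : φ c ∈ 𝒜 n := φ.map_mem hc
  obtain ⟨k, a, ha, rfl⟩ := Away.mk_surjective 𝒜 hfc q
  have key : ∀ g : G, ∃ m : ℕ, (φ c) ^ m * (g • a) = (φ c) ^ m * a := by
    intro g
    have h1 := congrArg HomogeneousLocalization.val (hq g)
    rw [Away.mk, HomogeneousLocalization.map_mk, val_mk, val_mk, Localization.mk_eq_mk_iff,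
      Localization.r_iff_exists] at h1
    obtain ⟨⟨_, m, rfl⟩, hm⟩ := h1
    simp only [gact_apply, smul_pow' g, hinvc g] at hm
    exact ⟨m + k, by rw [pow_add, mul_assoc, hm, mul_assoc]⟩
  choose m hm using key
  cases nonempty_fintype G
  let M := Finset.univ.sup m
  have hM : ∀ g : G, (φ c) ^ M * (g • a) = (φ c) ^ M * a := by
    intro g
    have hle' : m g ≤ M := Finset.le_sup (Finset.mem_univ g)
    obtain ⟨j, hj⟩ := Nat.exists_eq_add_of_le hle'
    rw [hj, pow_add, mul_comm ((φ c) ^ m g), mul_assoc, hm g, mul_assoc]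
  have hb : (φ c) ^ M * a ∈ 𝒜 ((M + k) • n) := by
    have h := SetLike.mul_mem_graded (SetLike.pow_mem_graded M hfc) ha
    have e : (M + k) • n = M • n + k • n := add_smul M k n
    rw [e]
    exact h
  have hbinv : ∀ g : G, g • ((φ c) ^ M * a) = (φ c) ^ M * a := by
    intro g
    rw [smul_mul', smul_pow', hinvc, hM]
  obtain ⟨c', hc', hcb⟩ := himg _ _ hb hbinv
  refine ⟨Away.mk 𝒞 hc (M + k) c' hc', ?_⟩
  rw [Away.map_mk]
  apply val_injective
  rw [Away.val_mk, Away.val_mk, Localization.mk_eq_mk_iff, Localization.r_iff_exists]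
  refine ⟨1, ?_⟩
  simp only [OneMemClass.coe_one, one_mul]
  rw [hcb, pow_add]
  ring

end Quot

end Groth.Agent.Helper2.ProjQuot
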