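import Mathlib
import Groth.Prelude.Def_SGA1
import Groth.Agent.Lib.Helper7.QuotBasis
import Groth.Agent.Lib.Helper1.ProjDom
import Groth.Agent.Lib.Helper2.ProjQuot.Alg

set_option autoImplicit false
set_option backward.isDefEq.respectTransparency.types false
set_option synthInstance.maxHeartbeats 400000
set_option maxHeartbeats 4000000
set_option linter.style.haveILetI false
set_option linter.unusedSectionVars false
set_option linter.unusedVariables false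
set_option linter.unusedSimpArgs false
set_option linter.unnecessarySimpa false

/-! helper2: `Proj A ⟶ Proj A^G` is a quotient by the finite group `G` of graded automorphisms
(`SGA1.IsQuot`), with the action and the projection characterised chartwise. -/

universe u
open CategoryTheory CategoryTheory.Limits AlgebraicGeometry TopologicalSpace Opposite
open HomogeneousLocalization

namespace Groth.Agent.Helper2.ProjQuot

open Groth.Agent.Helper1 Groth.Agent.Helper1.ProjDom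
open Groth.Agent.Helper7.QuotBasis Groth.Agent.Helper7.QuotGrp

section Transfer

theorem appLE_congr_hom' {X Y : Scheme.{u}} {a b : X ⟶ Y} (h : a = b) (U : Y.Opens) (V : X.Opens)
    (e : V ≤ a ⁻¹ᵁ U) : a.appLE U V e = b.appLE U V (h ▸ e) := by
  subst h; rfl

theorem isIso_appLE_top {Z X : Scheme.{u}} (j : Z ⟶ X) [IsOpenImmersion j] (W : X.Opens)
    (hW : W ≤ j.opensRange) (e : (⊤ : Z.Opens) ≤ j ⁻¹ᵁ W) : IsIso (j.appLE W ⊤ e) := by
  have h1 : IsIso (j.app W) := j.isIso_app W hW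
  have h2 : IsIso (Z.presheaf.map (homOfLE e).op) := by
    have : IsIso (homOfLE e) := ⟨⟨homOfLE le_top, rfl, rfl⟩⟩
    infer_instance
  unfold Scheme.Hom.appLE
  infer_instance

/-- the chart map on sections -/
noncomputable def chartHom {X : Scheme.{u}} {B : CommRingCat.{u}} (j : Spec B ⟶ X) (W : X.Opens)
    (e : (⊤ : (Spec B).Opens) ≤ j ⁻¹ᵁ W) : Γ(X, W) ⟶ B :=
  j.appLE W ⊤ e ≫ (Scheme.ΓSpecIso B).hom

theorem chartHom_bijective {X : Scheme.{u}} {B : CommRingCat.{u}} (j : Spec B ⟶ X)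
    [IsOpenImmersion j] (W : X.Opens) (hW : j.opensRange = W)
    (e : (⊤ : (Spec B).Opens) ≤ j ⁻¹ᵁ W) : Function.Bijective (chartHom j W e).hom := by
  have := isIso_appLE_top j W hW.ge e
  have : IsIso (chartHom j W e) := by unfold chartHom; infer_instance
  exact ConcreteCategory.bijective_of_isIso (chartHom j W e)

theorem top_le_preimage {X : Scheme.{u}} {Z : Scheme.{u}} (j : Z ⟶ X) [IsOpenImmersion j]
    (W : X.Opens) (hW : j.opensRange = W) : (⊤ : Z.Opens) ≤ j ⁻¹ᵁ W := by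
  intro x _
  rw [← hW]
  exact ⟨x, rfl⟩

theorem chart_naturality {X Y : Scheme.{u}} (f : X ⟶ Y) {B C' : CommRingCat.{u}}
    (jX : Spec B ⟶ X) (jY : Spec C' ⟶ Y) (φ : C' ⟶ B) (h : jX ≫ f = Spec.map φ ≫ jY)
    (U : Y.Opens) (W : X.Opens) (hWU : W ≤ f ⁻¹ᵁ U)
    (eX : (⊤ : (Spec B).Opens) ≤ jX ⁻¹ᵁ W) (eY : (⊤ : (Spec C').Opens) ≤ jY ⁻¹ᵁ U) :
    f.appLE U W hWU ≫ chartHom jX W eX = chartHom jY U eY ≫ φ := by
  unfold chartHom
  rw [← Category.assoc, Scheme.Hom.appLE_comp_appLE, appLE_congr_hom' h, Category.assoc,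
    ← Scheme.ΓSpecIso_naturality, ← Category.assoc]
  congr 1

theorem chart_naturality_apply {X Y : Scheme.{u}} (f : X ⟶ Y) {B C' : CommRingCat.{u}}
    (jX : Spec B ⟶ X) (jY : Spec C' ⟶ Y) (φ : C' ⟶ B) (h : jX ≫ f = Spec.map φ ≫ jY)
    (U : Y.Opens) (W : X.Opens) (hWU : W ≤ f ⁻¹ᵁ U)
    (eX : (⊤ : (Spec B).Opens) ≤ jX ⁻¹ᵁ W) (eY : (⊤ : (Spec C').Opens) ≤ jY ⁻¹ᵁ U)
    (a : Γ(Y, U)) :
    (chartHom jX W eX).hom ((f.appLE U W hWU).hom a) = φ.hom ((chartHom jY U eY).hom a) :=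
  congr($(chart_naturality f jX jY φ h U W hWU eX eY).hom a)

end Transfer

section ProjBasis
variable {A σ : Type u} [CommRing A] [SetLike σ A] [AddSubgroupClass σ A] (𝒜 : ℕ → σ)
  [GradedRing 𝒜]

theorem exists_idx_notMem (x : Proj 𝒜) : ∃ t : Idx 𝒜, t.f ∉ x.asHomogeneousIdeal := by
  have hy := x.not_irrelevant_le
  rw [HomogeneousIdeal.irrelevant_le] at hy
  push Not at hy
  obtain ⟨d, hd, hy⟩ := hy
  obtain ⟨f, hf, hfy⟩ := SetLike.not_le_iff_exists.mp hy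
  have hf' : f ∈ 𝒜 d := hf
  exact ⟨⟨d, hd, f, hf'⟩, hfy⟩

theorem isBasis_basicOpen_idx :
    Opens.IsBasis {U : (Proj 𝒜).Opens | ∃ t : Idx 𝒜, U = Proj.basicOpen 𝒜 t.f} := by
  rw [Opens.isBasis_iff_nbhd]
  intro U x hx
  obtain ⟨V, ⟨r, rfl⟩, hxV, hVU⟩ := Opens.isBasis_iff_nbhd.mp (Proj.isBasis_basicOpen 𝒜) hx
  have hsup := Proj.basicOpen_eq_iSup_proj 𝒜 r
  rw [hsup] at hxV
  obtain ⟨i, hi⟩ := Opens.mem_iSup.mp hxV
  obtain ⟨t, ht⟩ := exists_idx_notMem 𝒜 x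
  have hmem : GradedRing.proj 𝒜 i r ∈ 𝒜 i := by
    rw [GradedRing.proj_apply]
    exact SetLike.coe_mem _
  refine ⟨Proj.basicOpen 𝒜 (GradedRing.proj 𝒜 i r * t.f),
    ⟨⟨i + t.d, Nat.add_pos_right _ t.hd, _, SetLike.mul_mem_graded hmem t.hf⟩, rfl⟩, ?_, ?_⟩
  · rw [Proj.basicOpen_mul]
    exact ⟨hi, (Proj.mem_basicOpen 𝒜 _ x).mpr ht⟩
  · rw [Proj.basicOpen_mul]
    refine inf_le_left.trans (le_trans ?_ hVU)
    rw [hsup]
    exact le_iSup (fun i => Proj.basicOpen 𝒜 (GradedRing.proj 𝒜 i r)) i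

end ProjBasis

section Map
variable {A B σ τ : Type u} [CommRing A] [SetLike σ A] [AddSubgroupClass σ A] {𝒜 : ℕ → σ}
  [GradedRing 𝒜] [CommRing B] [SetLike τ B] [AddSubgroupClass τ B] {ℬ : ℕ → τ} [GradedRing ℬ]
  (φ : 𝒜 →+*ᵍ ℬ) (p : Proj ℬ ⟶ Proj 𝒜)
  (hcov : ∀ x : Proj ℬ, ∃ t : Idx 𝒜, x ∈ Proj.basicOpen ℬ (φ t.f))
  (hp : ∀ t : Idx 𝒜, Proj.awayι ℬ (φ t.f) (φ.2 t.hf) t.hd ≫ p = gmap φ t)

include hcov hp in
theorem map_mem_basicOpen_iff' {e : ℕ} (he : 0 < e) {g : A} (hg : g ∈ 𝒜 e) (x : Proj ℬ) :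
    p x ∈ Proj.basicOpen 𝒜 g ↔ x ∈ Proj.basicOpen ℬ (φ g) := by
  obtain ⟨s, hs⟩ := hcov x
  have hsf : φ s.f ∈ ℬ s.d := φ.2 s.hf
  obtain ⟨y, rfl⟩ := (RelCone3.mem_range_awayι_iff ℬ hsf s.hd x).2
    ((Proj.mem_basicOpen ℬ _ x).1 hs)
  have h1 : p (Proj.awayι ℬ (φ s.f) hsf s.hd y) = gmap φ s y := by
    rw [← hp s]; rfl
  rw [h1]
  exact gmap_mem_basicOpen_iff φ s he hg y

include hcov hp in
theorem preimage_basicOpen' (t : Idx 𝒜) :
    p ⁻¹ᵁ Proj.basicOpen 𝒜 t.f = Proj.basicOpen ℬ (φ t.f) := by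
  ext x
  exact map_mem_basicOpen_iff' φ p hcov hp t.hd t.hf x

include hcov hp in
theorem isAffineHom' : IsAffineHom p := by
  apply isAffineHom_of_forall_exists_isAffineOpen
  intro y
  obtain ⟨t, ht⟩ := exists_idx_notMem 𝒜 y
  refine ⟨Proj.basicOpen 𝒜 t.f, (Proj.mem_basicOpen 𝒜 t.f y).mpr ht,
    Proj.isAffineOpen_basicOpen 𝒜 t.f t.hf t.hd, ?_⟩
  rw [preimage_basicOpen' φ p hcov hp t]
  exact Proj.isAffineOpen_basicOpen ℬ (φ t.f) (φ.2 t.hf) t.hd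

/-- the cover of `Proj ℬ` by the charts `D₊(φ f)` -/
noncomputable def covX : (Proj ℬ).OpenCover where
  I₀ := Idx 𝒜
  X t := Spec (CommRingCat.of (HomogeneousLocalization.Away ℬ (φ t.f)))
  f t := Proj.awayι ℬ (φ t.f) (φ.2 t.hf) t.hd
  mem₀ := by
    rw [Scheme.presieve₀_mem_precoverage_iff]
    refine ⟨fun x => ?_, fun t => inferInstance⟩
    obtain ⟨t, ht⟩ := hcov x
    have htf : φ t.f ∈ ℬ t.d := φ.2 t.hf
    exact ⟨t, (RelCone3.mem_range_awayι_iff ℬ htf t.hd x).2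
      ((Proj.mem_basicOpen ℬ _ x).1 ht)⟩

end Map

section Main
variable {A C σ τ : Type u} [CommRing A] [CommRing C] [SetLike σ A] [AddSubgroupClass σ A]
  {𝒜 : ℕ → σ} [GradedRing 𝒜] [SetLike τ C] [AddSubgroupClass τ C] {𝒞 : ℕ → τ} [GradedRing 𝒞]
  {G : Type u} [Group G] [Finite G] [MulSemiringAction G A]
  (hGdeg : ∀ (g : G) (i : ℕ) (a : A), a ∈ 𝒜 i → g • a ∈ 𝒜 i)
  (φ : 𝒞 →+*ᵍ 𝒜) (hφ : Function.Injective φ) (hφinv : ∀ (g : G) (c : C), g • φ c = φ c)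
  (himg : ∀ (i : ℕ) (a : A), a ∈ 𝒜 i → (∀ g : G, g • a = a) → ∃ c ∈ 𝒞 i, φ c = a)

include hφinv in
theorem powers_le (g : G) (c : C) :
    Submonoid.powers (φ c) ≤ (Submonoid.powers (φ c)).comap (gact hGdeg g) := by
  rintro _ ⟨n, rfl⟩
  refine ⟨n, ?_⟩
  change (φ c) ^ n = g • ((φ c) ^ n)
  rw [smul_pow', hφinv]

include hφinv in
theorem tau_comp_map {n : ℕ} (g : G) (c : C) (hc : c ∈ 𝒞 n)
    (hle : Submonoid.powers (φ c) ≤ (Submonoid.powers (φ c)).comap (gact hGdeg g)) :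
    (HomogeneousLocalization.map (gact hGdeg g) hle).comp (Away.map φ c) = Away.map φ c := by
  refine RingHom.ext fun q => ?_
  obtain ⟨k, a, ha, rfl⟩ := Away.mk_surjective 𝒞 hc q
  rw [RingHom.comp_apply, Away.map_mk, Away.mk, HomogeneousLocalization.map_mk]
  apply val_injective
  rw [val_mk, val_mk]
  have h1 : gact hGdeg g (φ a) = φ a := hφinv g a
  have h2 : gact hGdeg g ((φ c) ^ k) = (φ c) ^ k := by
    change g • ((φ c) ^ k) = (φ c) ^ k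
    rw [smul_pow', hφinv]
  congr 1
  exact Subtype.ext h2

include hφ hφinv himg in
theorem main (ρ : G →* Aut (Proj 𝒜))
    (hρ : ∀ (g : G) (t : Idx 𝒜) (f' : A) (hf' : f' ∈ 𝒜 t.d)
      (hle : Submonoid.powers t.f ≤ (Submonoid.powers f').comap (gact hGdeg g))
      (h : g • t.f = f'),
      Proj.awayι 𝒜 f' hf' t.hd ≫ (ρ g).inv =
        Spec.map (CommRingCat.ofHom (HomogeneousLocalization.map (gact hGdeg g) hle)) ≫
          Proj.awayι 𝒜 t.f t.hf t.hd)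
    (π : Proj 𝒜 ⟶ Proj 𝒞)
    (hπ : ∀ t : Idx 𝒞, Proj.awayι 𝒜 (φ t.f) (φ.2 t.hf) t.hd ≫ π = gmap φ t) :
    SGA1.IsQuot ρ π := by
  -- the cover
  have hcov : ∀ x : Proj 𝒜, ∃ t : Idx 𝒞, x ∈ Proj.basicOpen 𝒜 (φ t.f) := by
    intro x
    obtain ⟨s, hs⟩ := exists_idx_notMem 𝒜 x
    haveI : x.asHomogeneousIdeal.toIdeal.IsPrime := x.isPrime
    obtain ⟨m, e, hm, he, heinv, hex⟩ := exists_invariant_notMem 𝒜 hGdeg
      x.asHomogeneousIdeal.toIdeal s.d s.hd s.f s.hf hs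
    obtain ⟨c, hc, rfl⟩ := himg m e he heinv
    exact ⟨⟨m, hm, c, hc⟩, (Proj.mem_basicOpen 𝒜 _ x).mpr hex⟩
  have haff : IsAffineHom π := isAffineHom' φ π hcov hπ
  have hpre := preimage_basicOpen' φ π hcov hπ
  -- the action on charts
  have hact : ∀ (g : G) (t : Idx 𝒞),
      Proj.awayι 𝒜 (φ t.f) (φ.2 t.hf) t.hd ≫ (ρ g).inv =
        Spec.map (CommRingCat.ofHom
          (HomogeneousLocalization.map (gact hGdeg g) (powers_le hGdeg φ hφinv g t.f))) ≫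
          Proj.awayι 𝒜 (φ t.f) (φ.2 t.hf) t.hd := fun g t =>
    hρ g ⟨t.d, t.hd, φ t.f, φ.2 t.hf⟩ (φ t.f) (φ.2 t.hf) (powers_le hGdeg φ hφinv g t.f)
      (hφinv g t.f)
  -- invariance
  have hinv' : ∀ g : G, (ρ g).inv ≫ π = π := by
    intro g
    refine (covX φ hcov).hom_ext _ _ fun t => ?_
    change Proj.awayι 𝒜 (φ t.f) (φ.2 t.hf) t.hd ≫ (ρ g).inv ≫ π =
      Proj.awayι 𝒜 (φ t.f) (φ.2 t.hf) t.hd ≫ π
    rw [reassoc_of% (hact g t), hπ t, gmap, ← Spec.map_comp_assoc, ← CommRingCat.ofHom_comp,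
      tau_comp_map hGdeg φ hφinv g t.f t.hf]
  have hinv : ∀ g : G, (ρ g).hom ≫ π = π := by
    intro g
    rw [← hinv' g, Iso.hom_inv_id_assoc, hinv' g]
  have hhom : ∀ g : G, (ρ g).hom = (ρ g⁻¹).inv := by
    intro g
    rw [map_inv]
    rfl
  refine isQuot_of_basis ρ π hinv haff {U | ∃ t : Idx 𝒞, U = Proj.basicOpen 𝒞 t.f}
    (isBasis_basicOpen_idx 𝒞) ?_ ?_ ?_
  · rintro _ ⟨s, rfl⟩ _ ⟨t, rfl⟩
    exact ⟨s.mul t, (Proj.basicOpen_mul 𝒞 s.f t.f).symm⟩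
  · rintro _ ⟨t, rfl⟩
    have hW : (Proj.awayι 𝒜 (φ t.f) (φ.2 t.hf) t.hd).opensRange =
        π ⁻¹ᵁ Proj.basicOpen 𝒞 t.f :=
      (Proj.opensRange_awayι 𝒜 (φ t.f) (φ.2 t.hf) t.hd).trans (hpre t).symm
    have hU := Proj.opensRange_awayι 𝒞 t.f t.hf t.hd
    have eX := top_le_preimage _ _ hW
    have eY := top_le_preimage _ _ hU
    have hbX := chartHom_bijective _ _ hW eX
    have hbY := chartHom_bijective _ _ hU eY
    have hnat := chart_naturality_apply π _ _ _ (hπ t) (Proj.basicOpen 𝒞 t.f)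
      (π ⁻¹ᵁ Proj.basicOpen 𝒞 t.f) le_rfl eX eY
    intro a b hab
    apply hbY.1
    apply map_injective φ hφ t.f t.hf
    have ha := hnat a
    have hb := hnat b
    rw [← Scheme.Hom.app_eq_appLE] at ha hb
    rw [hab] at ha
    exact ha.symm.trans hb
  · rintro _ ⟨t, rfl⟩ s hs
    have hW : (Proj.awayι 𝒜 (φ t.f) (φ.2 t.hf) t.hd).opensRange =
        π ⁻¹ᵁ Proj.basicOpen 𝒞 t.f :=
      (Proj.opensRange_awayι 𝒜 (φ t.f) (φ.2 t.hf) t.hd).trans (hpre t).symm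
    have hU := Proj.opensRange_awayι 𝒞 t.f t.hf t.hd
    have eX := top_le_preimage _ _ hW
    have eY := top_le_preimage _ _ hU
    have hbX := chartHom_bijective _ _ hW eX
    have hbY := chartHom_bijective _ _ hU eY
    have hnat := chart_naturality_apply π _ _ _ (hπ t) (Proj.basicOpen 𝒞 t.f)
      (π ⁻¹ᵁ Proj.basicOpen 𝒞 t.f) le_rfl eX eY
    -- the action on the chart
    have hnatG : ∀ (g : G) (s' : Γ(Proj 𝒜, π ⁻¹ᵁ Proj.basicOpen 𝒞 t.f)),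
        (chartHom _ _ eX).hom (sig ρ π hinv (Proj.basicOpen 𝒞 t.f) g s') =
          HomogeneousLocalization.map (gact hGdeg g⁻¹) (powers_le hGdeg φ hφinv g⁻¹ t.f)
            ((chartHom _ _ eX).hom s') := by
      intro g s'
      have h1 : Proj.awayι 𝒜 (φ t.f) (φ.2 t.hf) t.hd ≫ (ρ g).hom =
          Spec.map (CommRingCat.ofHom
            (HomogeneousLocalization.map (gact hGdeg g⁻¹) (powers_le hGdeg φ hφinv g⁻¹ t.f))) ≫
            Proj.awayι 𝒜 (φ t.f) (φ.2 t.hf) t.hd := by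
        rw [hhom g]
        exact hact g⁻¹ t
      exact chart_naturality_apply (ρ g).hom _ _ _ h1 (π ⁻¹ᵁ Proj.basicOpen 𝒞 t.f)
        (π ⁻¹ᵁ Proj.basicOpen 𝒞 t.f) (SGA1.preimage_le_of_inv ρ π hinv g _) eX eX s'
    have hq : ∀ g : G, HomogeneousLocalization.map (gact hGdeg g)
        (powers_le hGdeg φ hφinv g t.f) ((chartHom _ _ eX).hom s) = (chartHom _ _ eX).hom s := by
      intro g
      have h := hnatG g⁻¹ s
      rw [hs g⁻¹] at h
      simp only [inv_inv] at h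
      exact h.symm
    obtain ⟨q', hq'⟩ := mem_range_map hGdeg φ himg t.f t.hf (fun g => hφinv g t.f)
      (fun g => powers_le hGdeg φ hφinv g t.f) _ hq
    obtain ⟨a, rfl⟩ := hbY.2 q'
    refine ⟨a, ?_⟩
    apply hbX.1
    rw [Scheme.Hom.app_eq_appLE]
    exact (hnat a).trans hq'

end Main

end Groth.Agent.Helper2.ProjQuot
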