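import Mathlib
import Groth.Prelude.Def_SGA1
import Groth.Agent.Lib.Helper2.ProjQuot.Sch

set_option autoImplicit false
set_option backward.isDefEq.respectTransparency.types false
set_option synthInstance.maxHeartbeats 400000
set_option maxHeartbeats 4000000
set_option linter.style.haveILetI false
set_option linter.unusedSectionVars false
set_option linter.unusedVariables false
set_option linter.unusedSimpArgs false
set_option linter.unnecessarySimpa false

/-! helper2: assembly for S13181. -/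

universe u
open CategoryTheory CategoryTheory.Limits AlgebraicGeometry TopologicalSpace Opposite
open HomogeneousLocalization

namespace Groth.Agent.Helper2.ProjQuot

open Groth.Agent.Helper1 Groth.Agent.Helper1.ProjDom

theorem main13181 {R A : Type u} [CommRing R] [CommRing A] [Algebra R A] (𝒜 : ℕ → Submodule R A)
    [GradedAlgebra 𝒜]
    {G : Type u} [Group G] [Finite G] [MulSemiringAction G A]
    (hGdeg : ∀ (σ : G) (i : ℕ) (a : A), a ∈ 𝒜 i → σ • a ∈ 𝒜 i)
    {C : Type u} [CommRing C] [Algebra R C] (𝒞 : ℕ → Submodule R C) [GradedAlgebra 𝒞]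
    (ι : C →ₐ[R] A) (hι : Function.Injective ι)
    (hιdeg : ∀ (i : ℕ) (a : A), a ∈ (𝒞 i).map ι.toLinearMap ↔ (a ∈ 𝒜 i ∧ ∀ σ : G, σ • a = a))
    (ρ : G →* Aut (Proj 𝒜))
    (hρ : ∀ (σ : G) (n : ℕ) (f : A) (hn : 0 < n) (hf : f ∈ 𝒜 n)
      (θ : CommRingCat.of (HomogeneousLocalization.Away 𝒜 f) ⟶
        CommRingCat.of (HomogeneousLocalization.Away 𝒜 (σ • f))),
      (algebraMap (HomogeneousLocalization.Away 𝒜 (σ • f)) (Localization.Away (σ • f))).comp θ.hom =
        (Localization.awayMap (MulSemiringAction.toRingHom G A σ) f).comp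
          (algebraMap (HomogeneousLocalization.Away 𝒜 f) (Localization.Away f)) →
      Proj.awayι 𝒜 (σ • f) (hGdeg σ n f hf) hn ≫ (ρ σ).inv = Spec.map θ ≫ Proj.awayι 𝒜 f hf hn)
    (π : Proj 𝒜 ⟶ Proj 𝒞)
    (hπ : ∀ (n : ℕ) (c : C) (hn : 0 < n) (hc : c ∈ 𝒞 n)
      (θ : CommRingCat.of (HomogeneousLocalization.Away 𝒞 c) ⟶
        CommRingCat.of (HomogeneousLocalization.Away 𝒜 (ι c))),
      (algebraMap (HomogeneousLocalization.Away 𝒜 (ι c)) (Localization.Away (ι c))).comp θ.hom =
        (Localization.awayMap ι.toRingHom c).comp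
          (algebraMap (HomogeneousLocalization.Away 𝒞 c) (Localization.Away c)) →
      Proj.awayι 𝒜 (ι c) ((hιdeg n (ι c)).mp (Submodule.mem_map_of_mem hc)).1 hn ≫ π =
        Spec.map θ ≫ Proj.awayι 𝒞 c hc hn) :
    SGA1.IsQuot ρ π := by
  -- the graded homomorphism
  let φ : 𝒞 →+*ᵍ 𝒜 :=
    { ι.toRingHom with
      map_mem := fun {i x} hx => ((hιdeg i (ι x)).mp (Submodule.mem_map_of_mem hx)).1 }
  have hφ : Function.Injective φ := hι
  have hφinv : ∀ (g : G) (c : C), g • φ c = φ c := by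
    intro g c
    change g • ι c = ι c
    induction c using DirectSum.Decomposition.inductionOn 𝒞 with
    | zero => rw [map_zero, smul_zero]
    | homogeneous m =>
      exact ((hιdeg _ (ι m)).mp (Submodule.mem_map_of_mem m.2)).2 g
    | add m m' h1 h2 => rw [map_add, smul_add, h1, h2]
  have himg : ∀ (i : ℕ) (a : A), a ∈ 𝒜 i → (∀ g : G, g • a = a) → ∃ c ∈ 𝒞 i, φ c = a := by
    intro i a ha hinv
    obtain ⟨c, hc, hca⟩ := Submodule.mem_map.mp ((hιdeg i a).mpr ⟨ha, hinv⟩)
    exact ⟨c, hc, hca⟩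
  refine main hGdeg φ hφ hφinv himg ρ ?_ π ?_
  · intro g t f' hf' hle h
    subst h
    exact hρ g t.d t.f t.hd t.hf (CommRingCat.ofHom (Away.map (gact hGdeg g) t.f))
      (map_compat (gact hGdeg g) t.f)
  · intro t
    exact hπ t.d t.f t.hd t.hf (CommRingCat.ofHom (Away.map φ t.f)) (map_compat φ t.f)

end Groth.Agent.Helper2.ProjQuot
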